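import Mathlib
import Cfsg.Agent.H566.Main
import Cfsg.Agent.H429.CS.KBase
import Cfsg.Agent.H429.CS.KLat

/-!
# The normal subgroups of order prime to a perfect prime are solvable (helper429, S3677)
-/

set_option autoImplicit false

namespace Cfsg.Agent.H429.CS

open Subgroup Cfsg

universe u

variable {G : Type u} [Group G] [Finite G] {r m : ℕ}

/-- **A normal subgroup of order prime to `r` is solvable.** -/
theorem PP.solvable (hK : H566.KnownAll.{u}) (h : PP G r m) (K : Subgroup G) [K.Normal] (hrK : ¬ r ∣ Nat.card K) :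
    Group.IsSolvable K := by
  have := Fact.mk h.prime
  obtain ⟨y, hy⟩ := exists_prime_orderOf_dvd_card' r h.dvd
  by_contra hns
  have hcop : (Nat.card (zpowers y)).Coprime (Nat.card K) := by
    rw [Nat.card_zpowers, hy]
    exact (Nat.Prime.coprime_iff_not_dvd h.prime).2 hrK
  have hle : zpowers y ≤ normalizer (K : Set G) := by
    rw [normalizer_eq_top (H := K)]; exact le_top
  have h1 := (H566.rich_sub hK hle hcop hns).1
  apply h1
  have hle2 : K ⊓ centralizer (zpowers y : Set G) ≤ centralizer ({y} : Set G) := by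
    rw [centralizer_zpowers]; exact inf_le_right
  exact H566.nilp_of_inj (h.nil y hy) (inclusion hle2) (inclusion_injective hle2)

/-- **A large prime does not divide the order of a normal subgroup of order prime to `r`.** -/
theorem PP.not_dvd (hK : H566.KnownAll.{u}) (h : PP G r m) (K : Subgroup G) [K.Normal] (hrK : ¬ r ∣ Nat.card K) {t : ℕ}
    (ht : t.Prime) (htm : ¬ t ∣ m)
    (hO : ∀ l : ℕ, l.Prime → (l ∣ m ∨ l = t) → ∀ N : Subgroup G, N.Normal → IsPGroup l N → N = ⊥) :
    ¬ t ∣ Nat.card K :=
  h.not_dvd' K hrK (h.solvable hK K hrK) ht htm hO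

/-- version with the smallest class size -/
theorem PP.not_dvd_of_le (hK : H566.KnownAll.{u}) (h : PP G r m) (K : Subgroup G) [K.Normal] (hrK : ¬ r ∣ Nat.card K)
    {t μ : ℕ} (ht : t.Prime) (htm : ¬ t ∣ m) (hμ : ∀ x : G, x ≠ 1 → μ ≤ (centralizer ({x} : Set G)).index)
    (htμ : t ^ (Nat.card G).factorization t ≤ μ)
    (hlμ : ∀ l : ℕ, l.Prime → l ∣ m → l ^ (Nat.card G).factorization l ≤ μ) : ¬ t ∣ Nat.card K :=
  h.not_dvd hK K hrK ht htm fun l hl hlm N hN hp => eq_bot_of_le hl hμ
    (by rcases hlm with h1 | rfl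
        · exact hlμ l hl h1
        · exact htμ) N hN hp

theorem solv_of_known (hK : H566.KnownAll.{u}) : Solv.{u} := by
  intro G _ _ K _ y hcop hnil
  by_contra hns
  have hle : zpowers y ≤ normalizer (K : Set G) := by
    rw [normalizer_eq_top (H := K)]; exact le_top
  apply (H566.rich_sub hK hle hcop hns).1
  have hle2 : K ⊓ centralizer (zpowers y : Set G) ≤ centralizer ({y} : Set G) := by
    rw [centralizer_zpowers]; exact inf_le_right
  exact nilpotent_of_le hnil hle2

end Cfsg.Agent.H429.CS
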