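import Mathlib
import Cfsg.Agent.H429.CS.AltFus
import Cfsg.Agent.H429.CS.AltNum
import Cfsg.Agent.H370.AAM.OutP

/-!
# The simple section is not alternating (helper429, S3677, E2)
-/

set_option autoImplicit false

namespace Cfsg.Agent.H429.CS

open Subgroup Cfsg Cfsg.Agent.H902 Cfsg.Agent.H221.CS
open Cfsg.Agent.H364.SpVal Cfsg.Agent.H364.SpSmall

universe u

variable {n p f M κ : ℕ} {Γ : Type u} [Group Γ] [Finite Γ] {S : Subgroup Γ}

/-- `r ∥ k!` for `r ≤ k < 2 r` -/
theorem fac_factorial {r k : ℕ} (hr : r.Prime) (h1 : r ≤ k) (h2 : k < 2 * r) : k.factorial.factorization r = 1 := by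
  induction k, h1 using Nat.le_induction with
  | base =>
    obtain ⟨s, rfl⟩ := Nat.exists_eq_succ_of_ne_zero hr.ne_zero
    rw [Nat.factorial_succ, Nat.factorization_mul (by omega) (Nat.factorial_ne_zero _), Finsupp.add_apply]
    rw [hr.factorization_self, Nat.factorization_factorial_eq_zero_of_lt (Nat.lt_succ_self s)]
  | succ k hk ih =>
    rw [Nat.factorial_succ, Nat.factorization_mul (by omega) (Nat.factorial_ne_zero _), Finsupp.add_apply, ih (by omega),
      Nat.factorization_eq_zero_of_not_dvd, zero_add]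
    intro hd
    obtain ⟨c, hc⟩ := hd
    have h3 : c < 2 := by
      by_contra h
      have : r * 2 ≤ r * c := Nat.mul_le_mul_left _ (by omega)
      omega
    interval_cases c <;> omega

omit [Finite Γ] in
/-- facts on the chosen primes -/
theorem prime_facts (h : Dat n p f M κ Γ S) {r : ℕ} (hr : r.Prime)
    (ho : orderOf ((p ^ f : ℕ) : ZMod r) = cl n (p ^ f)) : 5 ≤ r ∧ r ≠ p ∧ ¬ r ∣ κ := by
  have hn := h.hn
  have := Fact.mk hr
  have hcl : 3 ≤ cl n (p ^ f) := by rw [cl]; split_ifs <;> omega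
  have hrp : r ≠ p := by
    rintro rfl
    rw [Nat.cast_pow, ZMod.natCast_self, zero_pow (by have := h.hY.hf; omega)] at ho
    have h1 : orderOf (0 : ZMod r) = 0 := by
      rw [orderOf_eq_zero_iff']
      intro k hk
      rw [zero_pow (by omega)]
      exact zero_ne_one
    omega
  have hne : ((p ^ f : ℕ) : ZMod r) ≠ 0 := by
    rw [Ne, ZMod.natCast_eq_zero_iff]
    intro h1
    exact hrp ((Nat.prime_dvd_prime_iff_eq hr h.hY.hp).1 (hr.dvd_of_dvd_pow h1))
  have h1 : cl n (p ^ f) ∣ r - 1 := ho ▸ ZMod.orderOf_dvd_card_sub_one hne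
  have h2 : 5 ≤ r := by
    have h3 : 0 < r - 1 := by have := hr.two_le; omega
    have h4 := Nat.le_of_dvd h3 h1
    have h5 : r ≠ 4 := by rintro rfl; norm_num at hr
    omega
  refine ⟨h2, hrp, h.not_dvd_large hr hrp ?_⟩
  have h3 : orderOf (((p ^ f) ^ 2 : ℕ) : ZMod r) = n := by
    rw [Nat.cast_pow, orderOf_pow' _ (by norm_num), ho, cl]
    split_ifs with hc
    · rw [Nat.gcd_eq_right (dvd_mul_right 2 n), Nat.mul_div_cancel_left _ (by norm_num)]
    · rw [not_or] at hc
      have : Nat.gcd n 2 = 1 := Nat.coprime_two_right.2 (Nat.not_even_iff_odd.1 hc.1)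
      rw [this, Nat.div_one]
  rw [h3]
  omega

/-- E2 -/
theorem no_alt (h : Dat n p f M κ Γ S) (h32 : ¬ (n = 3 ∧ p ^ f = 2)) {k : ℕ} (e : S ≃* ↥(alternatingGroup (Fin k))) :
    False := by
  have hn := h.hn
  have hq := h.q_ge
  obtain ⟨r, hr, hro, hrS⟩ := h.dvd
  obtain ⟨hr5, hrp, hrκ⟩ := prime_facts h hr hro
  have hrf := Fact.mk hr
  have hcS : Nat.card S = Nat.card (alternatingGroup (Fin k)) := Nat.card_congr e.toEquiv
  -- the order of `A_k`
  have hk1 : 1 < k := by
    by_contra hk
    have : Subsingleton (Equiv.Perm (Fin k)) := by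
      have : Subsingleton (Fin k) := by
        rcases (by omega : k = 0 ∨ k = 1) with rfl | rfl
        · infer_instance
        · infer_instance
      infer_instance
    have h1 : Nat.card (alternatingGroup (Fin k)) = 1 := Nat.card_unique
    rw [hcS, h1] at hrS
    exact hr.one_lt.ne' (Nat.dvd_one.1 hrS)
  have hkf : 2 * Nat.card (alternatingGroup (Fin k)) = k.factorial := by
    have : Nontrivial (Fin k) := Fin.nontrivial_iff_two_le.2 hk1
    have h1 := two_mul_nat_card_alternatingGroup (α := Fin k)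
    rw [h1, Nat.card_perm, Nat.card_fin]
  have hrk : r ≤ k := by
    have h1 : r ∣ k.factorial := by
      rw [← hkf, ← hcS]
      exact hrS.mul_left _
    exact (hr.dvd_factorial).1 h1
  -- `k ≤ r + 3`
  have hkr : k ≤ r + 3 := by
    by_contra hcon
    obtain ⟨y, hy, z, hz, hyz⟩ := Cfsg.Agent.H429.AltFus.exists_comm hr (by omega) (show r + 4 ≤ k by omega)
    have h1 : orderOf ((e.symm y : S) : Γ) = r := by rw [Subgroup.orderOf_coe, MulEquiv.orderOf_eq, hy]
    have h2 : ((e.symm z : S) : Γ) ∈ centralizer ({((e.symm y : S) : Γ)} : Set Γ) := by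
      rw [mem_centralizer_singleton_iff]
      have h3 : Commute (e.symm z) (e.symm y) := (hyz.symm).map e.symm
      exact congrArg Subtype.val h3.eq
    have h3 := orderOf_dvd_natCard (⟨_, h2⟩ : centralizer ({((e.symm y : S) : Γ)} : Set Γ))
    rw [Subgroup.orderOf_mk, Subgroup.orderOf_coe, MulEquiv.orderOf_eq, hz] at h3
    have h4 := h3.trans (h.tor r hr hro _ h1)
    exact Nat.not_even_iff_odd.2 (mm_odd hq (by omega)) (even_iff_two_dvd.2 h4)
  -- the index
  have hidx : S.index ∣ 4 := by
    have hs := h.simple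
    refine h.index_dvd.trans (Cfsg.Agent.H370.AAM.out_alt (S := S) ?_ ?_ e).2
    · exact h.nonab
    · omega
  have hrI : ¬ r ∣ S.index := fun h1 => by
    have h2 := Nat.le_of_dvd (by norm_num) (h1.trans hidx)
    omega
  have hMr : M.factorization r = 1 := by
    rw [← h.card_eq, Nat.factorization_mul h.kap_ne (Nat.mul_ne_zero Nat.card_pos.ne' h.index_ne),
      Nat.factorization_mul Nat.card_pos.ne' h.index_ne, Finsupp.add_apply, Finsupp.add_apply,
      Nat.factorization_eq_zero_of_not_dvd hrκ, Nat.factorization_eq_zero_of_not_dvd hrI, zero_add, add_zero]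
    have h1 := fac_factorial hr hrk (by omega)
    rw [← hkf, Nat.factorization_mul (by norm_num) Nat.card_pos.ne', Finsupp.add_apply,
      Nat.factorization_eq_zero_of_not_dvd (fun h2 => by
        have := Nat.le_of_dvd (by norm_num) h2
        omega), zero_add] at h1
    rw [hcS, h1]
  -- fusion
  have hr4 : r ≤ 4 * n + 1 := by
    obtain ⟨y, hy, hconj⟩ := Cfsg.Agent.H429.AltFus.exists_fus hr (by omega) hrk
    set x : Γ := ((e.symm y : S) : Γ) with hx
    have hxo : orderOf x = r := by rw [hx, Subgroup.orderOf_coe, MulEquiv.orderOf_eq, hy]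
    have h1 := h.fus r hr hro hMr x hxo
    have hodd := hr.odd_of_ne_two (by omega)
    have h2 : (r - 1) / 2 ≤ Nat.card {z : Γ // z ∈ zpowers x ∧ IsConj x z} := by
      have hnd : ∀ i : Fin ((r - 1) / 2), ¬ r ∣ (i : ℕ) + 1 := fun i h3 => by
        have := Nat.le_of_dvd (by omega) h3
        have := i.2
        omega
      let F : Fin ((r - 1) / 2) → {z : Γ // z ∈ zpowers x ∧ IsConj x z} := fun i =>
        ⟨x ^ (((i : ℕ) + 1) ^ 2), Subgroup.npow_mem_zpowers x _, by
          obtain ⟨c, hc⟩ := isConj_iff.1 (hconj _ (hnd i))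
          refine isConj_iff.2 ⟨((e.symm c : S) : Γ), ?_⟩
          have h3 := congrArg (fun t => ((e.symm t : S) : Γ)) hc
          simp only [map_mul, map_inv, map_pow, Subgroup.coe_mul, Subgroup.coe_inv, Subgroup.coe_pow] at h3
          exact h3⟩
      have hF : Function.Injective F := by
        intro i j hij
        have h3 : x ^ (((i : ℕ) + 1) ^ 2) = x ^ (((j : ℕ) + 1) ^ 2) := congrArg Subtype.val hij
        rw [pow_inj_mod, hxo] at h3
        -- `r ∣ (i - j) (i + j + 2)`
        have hi := i.2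
        have hj := j.2
        have h4 : ((((i : ℕ) + 1) ^ 2 : ℕ) : ZMod r) = ((((j : ℕ) + 1) ^ 2 : ℕ) : ZMod r) :=
          (ZMod.natCast_eq_natCast_iff _ _ _).2 h3
        push_cast at h4
        have h5 : (((i : ℕ) : ZMod r) + 1 - (((j : ℕ) : ZMod r) + 1)) * (((i : ℕ) : ZMod r) + 1 + (((j : ℕ) : ZMod r) + 1)) = 0 := by
          rw [← sub_eq_zero] at h4
          rw [← h4]; ring
        rcases mul_eq_zero.1 h5 with h6 | h6
        · have h7 : ((i : ℕ) : ZMod r) = ((j : ℕ) : ZMod r) := by
            rw [sub_eq_zero] at h6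
            exact add_right_cancel h6
          rw [ZMod.natCast_eq_natCast_iff', Nat.mod_eq_of_lt (by omega), Nat.mod_eq_of_lt (by omega)] at h7
          exact Fin.ext h7
        · exfalso
          have h7 : (((i : ℕ) + 1 + ((j : ℕ) + 1) : ℕ) : ZMod r) = 0 := by push_cast; exact h6
          rw [ZMod.natCast_eq_zero_iff] at h7
          have h8 := Nat.le_of_dvd (by omega) h7
          omega
      have h3 := Nat.card_le_card_of_injective F hF
      rwa [Nat.card_fin] at h3
    have h3 := h2.trans h1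
    obtain ⟨c, hc⟩ := hodd
    omega
  -- arithmetic
  have hT : S.index * Nat.card S ∣ 2 * (4 * n + 4).factorial := by
    have h1 : k.factorial ∣ (4 * n + 4).factorial := Nat.factorial_dvd_factorial (by omega)
    have h2 : S.index * Nat.card S ∣ 4 * Nat.card S := Nat.mul_dvd_mul_right hidx _
    refine h2.trans ?_
    rw [hcS, show 4 * Nat.card (alternatingGroup (Fin k)) = 2 * (2 * Nat.card (alternatingGroup (Fin k))) by ring, hkf]
    exact Nat.mul_dvd_mul_left _ h1
  rcases Nat.lt_or_ge n 5 with hn5 | hn5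
  · have h34 : n = 3 ∨ n = 4 := by omega
    have h1 := h.AA_dvd (by omega) h32
    rw [mul_comm (Nat.card S)] at h1
    have h11 : 11 ∣ M := by
      refine dvd_trans ?_ h.pi
      have hk11 : 11 ≤ k := by
        rcases Cfsg.Agent.H429.AltNum.arith_small h34 hq h32 h1 hT with ⟨h3, h4⟩ | ⟨h3, h4⟩
        · have h5 : cl n (p ^ f) = 3 := by rw [h3, h4]; decide
          rw [h5, h4] at hro
          have h6 : r ∣ 3 ^ 3 - 1 := by
            rw [Cfsg.Agent.Lib.Zsigmondy.dvd_pow_sub_one_iff (by norm_num), hro]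
          have h7 : r ∣ 2 * 13 := h6
          rcases (Nat.Prime.dvd_mul hr).1 h7 with h8 | h8
          · have := Nat.le_of_dvd (by norm_num) h8
            omega
          · have := (Nat.prime_dvd_prime_iff_eq hr (by norm_num)).1 h8
            omega
        · have h5 : cl n (p ^ f) = 8 := by rw [h3, h4]; decide
          rw [h5, h4] at hro
          have h6 : r ∣ 2 ^ 8 - 1 := by
            rw [Cfsg.Agent.Lib.Zsigmondy.dvd_pow_sub_one_iff (by norm_num), hro]
          have h7 : r ∣ 15 * 17 := h6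
          rcases (Nat.Prime.dvd_mul hr).1 h7 with h8 | h8
          · exfalso
            have h9 : r ∣ 2 ^ 4 - 1 := h8
            rw [Cfsg.Agent.Lib.Zsigmondy.dvd_pow_sub_one_iff (by norm_num), hro] at h9
            norm_num at h9
          · have := (Nat.prime_dvd_prime_iff_eq hr (by norm_num)).1 h8
            omega
      have h5 : 11 ∣ k.factorial := (Nat.Prime.dvd_factorial (by norm_num)).2 hk11
      rw [← hkf] at h5
      rw [hcS]
      exact (Nat.Coprime.dvd_of_dvd_mul_left (by norm_num) h5)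
    have h12 := h.hY.eq
    rcases Cfsg.Agent.H429.AltNum.arith_small h34 hq h32 h1 hT with ⟨h3, h4⟩ | ⟨h3, h4⟩
    · rw [h3, h4] at h12
      have h13 : 11 ∣ (3 : ℕ) ^ Art.NN (.C 3) * Art.num (.C 3) 3 := h12 ▸ h11.mul_left _
      revert h13
      decide +kernel
    · rw [h3, h4] at h12
      have h13 : 11 ∣ (2 : ℕ) ^ Art.NN (.C 4) * Art.num (.C 4) 2 := h12 ▸ h11.mul_left _
      revert h13
      decide +kernel
  · exact Cfsg.Agent.H429.AltNum.arith hn5 hq (h.fr h32) hT

end Cfsg.Agent.H429.CS
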