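import Mathlib
import Cfsg.Agent.H221.CS.Data
import Cfsg.Agent.H364.Reduce
import Cfsg.Agent.H364.OutLie
import Cfsg.Agent.H364.SpEnum
import Cfsg.Agent.OrdDiv.Table
import Cfsg.Agent.H370.AAM.OutP
import Cfsg.Agent.H902.Names

/-!
# S3677, row `C_n`, piece E5: `PSp₆(2)` and `PSp₈(2)` (proof of helper729; light copy, the classification is a hypothesis)

Enumeration of the simple groups by order.
-/

set_option autoImplicit false

namespace Cfsg.Agent.H429.CS.E5

open Subgroup Cfsg Cfsg.Agent.OrdDiv Cfsg.Agent.H902 Cfsg.Agent.H902.Names Cfsg.Agent.H221.CS Cfsg.Agent.H902.Art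

universe u

/-- the enumeration: `MS ∣ M`, `r ∣ MS`, `D ∣ k · d · f · MS` -/
def chk (M r D v a k : ℕ) (exc : List (Art.Sh × ℕ)) : Bool :=
  (List.range (a + 1)).all fun N => (ents v N).all fun x =>
    (M % val v x != 0) || (val v x % r != 0) || ((k * dd x.1 (v ^ x.2) * x.2 * val v x) % D != 0) || decide (x ∈ exc)

theorem chk_mem {M r D v a k MS I g : ℕ} {X : Art.Sh} {exc : List (Art.Sh × ℕ)} (hM0 : M ≠ 0) (hX : Art.Real X v g MS)
    (hMS : MS ∣ M) (hr : r ∣ MS) (hI : I ∣ k * dd X (v ^ g) * g) (hD : D ∣ I * MS) (hv : ¬ v ^ (a + 1) ∣ M)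
    (hc : chk M r D v a k exc = true) : (X, g) ∈ exc := by
  rw [chk, List.all_eq_true] at hc
  have hN : g * NN X ≤ a := by
    by_contra hcon
    apply hv
    rw [P_prime_exp hX] at hcon
    exact (pow_dvd_pow v (by omega)).trans ((Nat.ordProj_dvd MS v).trans hMS)
  have h1 := hc (g * NN X) (by rw [List.mem_range]; omega)
  rw [List.all_eq_true] at h1
  have h2 := h1 (X, g) (mem_ents hX rfl)
  rw [val_eq hX] at h2
  simp only [Bool.or_eq_true, bne_iff_ne, ne_eq, decide_eq_true_eq] at h2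
  rcases h2 with ((h2 | h2) | h2) | h2
  · exact absurd (Nat.mod_eq_zero_of_dvd hMS) h2
  · exact absurd (Nat.mod_eq_zero_of_dvd hr) h2
  · exact absurd (Nat.mod_eq_zero_of_dvd (hD.trans (Nat.mul_dvd_mul_right hI MS))) h2
  · exact h2

theorem chk6 : ∀ a ∈ [(2, 9, 6, [(Art.Sh.L 3, 2), (Art.Sh.C 3, 1)]), (3, 4, 24, []), (5, 1, 24, []), (7, 1, 24, [])],
    chk 1451520 7 2835 a.1 a.2.1 a.2.2.1 a.2.2.2 = true := by
  decide +kernel

theorem chk8 : ∀ a ∈ [(2, 16, 6, [(Art.Sh.L 4, 2), (Art.Sh.C 4, 1)]), (3, 5, 24, []), (5, 2, 24, []), (7, 1, 24, []),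
    (17, 1, 24, [])],
    chk 47377612800 17 722925 a.1 a.2.1 a.2.2.1 a.2.2.2 = true := by
  decide +kernel

theorem spor6 : ∀ x ∈ spor, ¬ (x.2 ∣ 1451520 ∧ 7 ∣ x.2) := by decide +kernel

theorem spor8 : ∀ x ∈ spor, ¬ (x.2 ∣ 47377612800 ∧ 17 ∣ x.2) := by decide +kernel

section

variable {n p f M κ : ℕ} {Γ : Type u} [Group Γ] [Finite Γ] {S : Subgroup Γ}

theorem dat_mul (h : Dat n p f M κ Γ S) : κ * (Nat.card S * S.index) = M := by
  rw [S.card_mul_index, h.card]

theorem dat_index (h : Dat n p f M κ Γ S) : S.index ∣ Nat.card (Cfsg.Out S) := by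
  have := h.normal
  have := h.simple
  exact Cfsg.Agent.H364.index_dvd_out S h.nonab h.cent

theorem prime_of_order {r : ℕ} (hr : r.Prime) (h : orderOf ((2 : ℕ) : ZMod r) = 3) : r = 7 := by
  have h1 : ((2 : ℕ) : ZMod r) ^ 3 = 1 := by rw [← h]; exact pow_orderOf_eq_one _
  have h2 : ((7 : ℕ) : ZMod r) = 0 := by
    have : ((7 : ℕ) : ZMod r) = ((2 : ℕ) : ZMod r) ^ 3 - 1 := by push_cast; ring
    rw [this, h1, sub_self]
  rw [ZMod.natCast_eq_zero_iff] at h2
  exact (Nat.prime_dvd_prime_iff_eq hr (by norm_num)).1 h2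

theorem prime_of_order' {r : ℕ} (hr : r.Prime) (h : orderOf ((2 : ℕ) : ZMod r) = 8) : r = 17 := by
  have : Fact r.Prime := ⟨hr⟩
  have h1 : ((2 : ℕ) : ZMod r) ^ 8 = 1 := by rw [← h]; exact pow_orderOf_eq_one _
  have h3 : ((2 : ℕ) : ZMod r) ^ 4 ≠ 1 := fun h4 => by
    have h5 := orderOf_le_of_pow_eq_one (by norm_num) h4
    omega
  have h2 : (((2 : ℕ) : ZMod r) ^ 4 - 1) * ((17 : ℕ) : ZMod r) = 0 := by
    have : (((2 : ℕ) : ZMod r) ^ 4 - 1) * ((17 : ℕ) : ZMod r) = ((2 : ℕ) : ZMod r) ^ 8 - 1 := by push_cast; ring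
    rw [this, h1, sub_self]
  rcases mul_eq_zero.1 h2 with h4 | h4
  · exact absurd (sub_eq_zero.1 h4) h3
  · rw [ZMod.natCast_eq_zero_iff] at h4
    exact (Nat.prime_dvd_prime_iff_eq hr (by norm_num)).1 h4

/-- E5 -/
theorem sp6 (h : Dat 3 2 1 M κ Γ S) (hkn : IsKnownSimple' S) : Nat.card S = M ∨ (κ = 8 ∧ Nat.card S = 181440) := by
  have hsim := h.simple
  have hM : M = 1451520 := by
    have h1 := h.hY.eq
    have e1 : dd (.C 3) (2 ^ 1) = 1 := by decide +kernel
    have e2 : (2 ^ 1) ^ NN (.C 3) * num (.C 3) (2 ^ 1) = 1451520 := by decide +kernel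
    rw [e1, e2] at h1
    omega
  have hmul := dat_mul h
  have hI := dat_index h
  obtain ⟨j, hκ⟩ := h.kap32 rfl rfl
  have h7 : 7 ∣ Nat.card S := by
    obtain ⟨r, hr, ho, hd⟩ := h.dvd
    have hcl : cl 3 (2 ^ 1) = 3 := by decide
    rw [hcl, pow_one] at ho
    rw [prime_of_order hr ho] at hd
    exact hd
  have hMS : Nat.card S ∣ 1451520 := by
    rw [← hM, ← hmul]
    exact (Dvd.intro _ rfl).mul_left _
  have hD : 2835 ∣ S.index * Nat.card S := by
    have h1 : 2835 ∣ κ * (Nat.card S * S.index) := by rw [hmul, hM]; norm_num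
    rw [mul_comm S.index]
    refine Nat.Coprime.dvd_of_dvd_mul_left ?_ h1
    rw [hκ]
    exact Nat.Coprime.pow_right _ (by norm_num)
  cases Names.exists_nam table hkn h.nonab with
  | alt k hk h1 hc =>
    obtain ⟨e⟩ := h1
    have h4 : S.index ∣ 4 := hI.trans (Cfsg.Agent.H370.AAM.out_alt h.nonab hk e).2
    have hk10 : k ≤ 10 := by
      by_contra hcon
      have h5 : 11 ∣ 2 * Nat.card S := by
        rw [hc]
        exact Nat.dvd_factorial (by norm_num) (by omega)
      have h6 : 11 ∣ 2 * 1451520 := h5.trans (Nat.mul_dvd_mul_left 2 hMS)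
      norm_num at h6
    have h5 : 2835 ∣ 4 * Nat.card S := hD.trans (Nat.mul_dvd_mul_right h4 _)
    have hpos : 0 < Nat.card S := Nat.card_pos
    interval_cases k <;> simp only [Nat.factorial] at hc
    · omega
    · omega
    · omega
    · omega
    · have h6 : Nat.card S = 181440 := by omega
      right
      refine ⟨?_, h6⟩
      rw [h6, hM] at hmul
      have h7 : κ * S.index = 8 := by
        have : κ * (181440 * S.index) = 181440 * (κ * S.index) := by ring
        rw [this] at hmul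
        omega
      have h8 : j < 2 := by
        by_contra hcon
        have h9 : 8 ^ 2 ∣ κ := by rw [hκ]; exact pow_dvd_pow 8 (by omega)
        have h10 : 8 ^ 2 ∣ κ * S.index := h9.mul_right _
        rw [h7] at h10
        norm_num at h10
      interval_cases j
      · rw [hκ, pow_zero, one_mul] at h7
        rw [h7] at h4
        norm_num at h4
      · rw [hκ, pow_one]
    · exfalso
      have h6 : Nat.card S = 1814400 := by omega
      rw [h6] at hMS
      norm_num at hMS
  | spor x hx h1 hc =>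
    rw [hc] at hMS h7
    exact absurd ⟨hMS, h7⟩ (spor6 x hx)
  | lie N X v g hN h1 hX =>
    obtain ⟨c, hc1, hc2, hc3⟩ := Cfsg.Agent.H364.OutLie.card_out h.nonab hN h1 hX
    have hIc : S.index ∣ 24 * dd X (v ^ g) * g := (hc1 ▸ hI).trans (Nat.mul_dvd_mul_right hc2 g)
    have hvM : v ∣ 1451520 := by
      refine Dvd.dvd.trans ?_ hMS
      have h2 := P_prime_exp hX
      have h3 := NN_pos hX
      have h4 := hX.hf
      refine (dvd_pow_self v ?_).trans (Nat.ordProj_dvd (Nat.card S) v)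
      rw [← h2]
      exact (Nat.mul_pos h4 h3).ne'
    have hv : v = 2 ∨ v = 3 ∨ v = 5 ∨ v = 7 := by
      have e : 1451520 = 2 ^ 9 * (3 ^ 4 * (5 * 7)) := by norm_num
      rw [e] at hvM
      have hvp := hX.hp
      rcases hvp.dvd_mul.1 hvM with h2 | h2
      · exact Or.inl ((Nat.prime_dvd_prime_iff_eq hvp (by norm_num)).1 (hvp.dvd_of_dvd_pow h2))
      rcases hvp.dvd_mul.1 h2 with h2 | h2
      · exact Or.inr (Or.inl ((Nat.prime_dvd_prime_iff_eq hvp (by norm_num)).1 (hvp.dvd_of_dvd_pow h2)))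
      rcases hvp.dvd_mul.1 h2 with h2 | h2
      · exact Or.inr (Or.inr (Or.inl ((Nat.prime_dvd_prime_iff_eq hvp (by norm_num)).1 h2)))
      · exact Or.inr (Or.inr (Or.inr ((Nat.prime_dvd_prime_iff_eq hvp (by norm_num)).1 h2)))
    rcases hv with rfl | rfl | rfl | rfl
    · have hIc' : S.index ∣ 6 * dd X (2 ^ g) * g := (hc1 ▸ hI).trans (Nat.mul_dvd_mul_right (hc3 rfl) g)
      have h2 := chk_mem (by norm_num) hX hMS h7 hIc' hD (by norm_num) (chk6 (2, 9, 6, [(Art.Sh.L 3, 2), (Art.Sh.C 3, 1)]) (by simp))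
      simp only [List.mem_cons, Prod.mk.injEq, List.not_mem_nil, or_false] at h2
      rcases h2 with ⟨rfl, rfl⟩ | ⟨rfl, rfl⟩
      · exfalso
        cases hN
        obtain ⟨F, _, _, hF, ⟨e⟩⟩ := h1
        have h3 := Cfsg.Agent.H370.AAM.out_psl h.nonab Nat.prime_two (by norm_num) hF (by norm_num) (by norm_num) e rfl
        have h4 : Nat.card (Cfsg.Out S) = 12 := by rw [h3]; norm_num
        rw [h4] at hI
        have h5 := val_eq hX
        have h6 : val 2 (Art.Sh.L 3, 2) = 20160 := by decide +kernel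
        rw [h6] at h5
        have h7 := hD.trans (Nat.mul_dvd_mul_right hI _)
        rw [← h5] at h7
        norm_num at h7
      · left
        have h5 := val_eq hX
        have h6 : val 2 (Art.Sh.C 3, 1) = 1451520 := by decide +kernel
        rw [← h5, h6, hM]
    · have h2 := chk_mem (by norm_num) hX hMS h7 hIc hD (by norm_num) (chk6 (3, 4, 24, []) (by simp))
      simp at h2
    · have h2 := chk_mem (by norm_num) hX hMS h7 hIc hD (by norm_num) (chk6 (5, 1, 24, []) (by simp))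
      simp at h2
    · have h2 := chk_mem (by norm_num) hX hMS h7 hIc hD (by norm_num) (chk6 (7, 1, 24, []) (by simp))
      simp at h2

theorem sp8 (h : Dat 4 2 1 M κ Γ S) (hkn : IsKnownSimple' S) : Nat.card S = M := by
  have hsim := h.simple
  have hM : M = 47377612800 := by
    have h1 := h.hY.eq
    have e1 : dd (.C 4) (2 ^ 1) = 1 := by decide +kernel
    have e2 : (2 ^ 1) ^ NN (.C 4) * num (.C 4) (2 ^ 1) = 47377612800 := by decide +kernel
    rw [e1, e2] at h1
    omega
  have hmul := dat_mul h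
  have hI := dat_index h
  have h17 : 17 ∣ Nat.card S := by
    obtain ⟨r, hr, ho, hd⟩ := h.dvd
    have hcl : cl 4 (2 ^ 1) = 8 := by decide
    rw [hcl, pow_one] at ho
    rw [prime_of_order' hr ho] at hd
    exact hd
  have hMS : Nat.card S ∣ 47377612800 := by
    rw [← hM, ← hmul]
    exact (Dvd.intro _ rfl).mul_left _
  have hD : 722925 ∣ S.index * Nat.card S := by
    have h1 : 722925 ∣ κ * (Nat.card S * S.index) := by rw [hmul, hM]; norm_num
    rw [mul_comm S.index]
    refine Nat.Coprime.dvd_of_dvd_mul_left ?_ h1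
    apply Nat.Coprime.symm
    apply Nat.coprime_of_dvd
    intro l hl hlκ hlD
    rcases h.kap l hl hlκ with h2 | ⟨h2, -⟩ | ⟨h2, -⟩ | ⟨h2, -⟩
    · subst h2
      norm_num at hlD
    · omega
    · omega
    · omega
  cases Names.exists_nam table hkn h.nonab with
  | alt k hk h1 hc =>
    exfalso
    have hk17 : 17 ≤ k := by
      have h5 : 17 ∣ k.factorial := by rw [← hc]; exact h17.mul_left 2
      exact ((Nat.Prime.dvd_factorial (by norm_num)).1 h5)
    have h5 : 13 ∣ 2 * Nat.card S := by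
      rw [hc]
      exact Nat.dvd_factorial (by norm_num) (by omega)
    have h6 : 13 ∣ 2 * 47377612800 := h5.trans (Nat.mul_dvd_mul_left 2 hMS)
    norm_num at h6
  | spor x hx h1 hc =>
    rw [hc] at hMS h17
    exact absurd ⟨hMS, h17⟩ (spor8 x hx)
  | lie N X v g hN h1 hX =>
    obtain ⟨c, hc1, hc2, hc3⟩ := Cfsg.Agent.H364.OutLie.card_out h.nonab hN h1 hX
    have hIc : S.index ∣ 24 * dd X (v ^ g) * g := (hc1 ▸ hI).trans (Nat.mul_dvd_mul_right hc2 g)
    have hvM : v ∣ 47377612800 := by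
      refine Dvd.dvd.trans ?_ hMS
      have h2 := P_prime_exp hX
      have h3 := NN_pos hX
      have h4 := hX.hf
      refine (dvd_pow_self v ?_).trans (Nat.ordProj_dvd (Nat.card S) v)
      rw [← h2]
      exact (Nat.mul_pos h4 h3).ne'
    have hv : v = 2 ∨ v = 3 ∨ v = 5 ∨ v = 7 ∨ v = 17 := by
      have e : 47377612800 = 2 ^ 16 * (3 ^ 5 * (5 ^ 2 * (7 * 17))) := by norm_num
      rw [e] at hvM
      have hvp := hX.hp
      rcases hvp.dvd_mul.1 hvM with h2 | h2
      · exact Or.inl ((Nat.prime_dvd_prime_iff_eq hvp (by norm_num)).1 (hvp.dvd_of_dvd_pow h2))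
      rcases hvp.dvd_mul.1 h2 with h2 | h2
      · exact Or.inr (Or.inl ((Nat.prime_dvd_prime_iff_eq hvp (by norm_num)).1 (hvp.dvd_of_dvd_pow h2)))
      rcases hvp.dvd_mul.1 h2 with h2 | h2
      · exact Or.inr (Or.inr (Or.inl ((Nat.prime_dvd_prime_iff_eq hvp (by norm_num)).1 (hvp.dvd_of_dvd_pow h2))))
      rcases hvp.dvd_mul.1 h2 with h2 | h2
      · exact Or.inr (Or.inr (Or.inr (Or.inl ((Nat.prime_dvd_prime_iff_eq hvp (by norm_num)).1 h2))))
      · exact Or.inr (Or.inr (Or.inr (Or.inr ((Nat.prime_dvd_prime_iff_eq hvp (by norm_num)).1 h2))))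
    rcases hv with rfl | rfl | rfl | rfl | rfl
    · have hIc' : S.index ∣ 6 * dd X (2 ^ g) * g := (hc1 ▸ hI).trans (Nat.mul_dvd_mul_right (hc3 rfl) g)
      have h2 := chk_mem (by norm_num) hX hMS h17 hIc' hD (by norm_num) (chk8 (2, 16, 6, [(Art.Sh.L 4, 2), (Art.Sh.C 4, 1)]) (by simp))
      simp only [List.mem_cons, Prod.mk.injEq, List.not_mem_nil, or_false] at h2
      rcases h2 with ⟨rfl, rfl⟩ | ⟨rfl, rfl⟩
      · exfalso
        cases hN
        obtain ⟨F, _, _, hF, ⟨e⟩⟩ := h1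
        have h3 := Cfsg.Agent.H370.AAM.out_psl h.nonab Nat.prime_two (by norm_num) hF (by norm_num) (by norm_num) e rfl
        have h4 : Nat.card (Cfsg.Out S) = 4 := by rw [h3]; norm_num
        rw [h4] at hI
        have h5 := val_eq hX
        have h6 : val 2 (Art.Sh.L 4, 2) = 987033600 := by decide +kernel
        rw [h6] at h5
        have h7 := hD.trans (Nat.mul_dvd_mul_right hI _)
        rw [← h5] at h7
        norm_num at h7
      · have h5 := val_eq hX
        have h6 : val 2 (Art.Sh.C 4, 1) = 47377612800 := by decide +kernel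
        rw [← h5, h6, hM]
    · have h2 := chk_mem (by norm_num) hX hMS h17 hIc hD (by norm_num) (chk8 (3, 5, 24, []) (by simp))
      simp at h2
    · have h2 := chk_mem (by norm_num) hX hMS h17 hIc hD (by norm_num) (chk8 (5, 2, 24, []) (by simp))
      simp at h2
    · have h2 := chk_mem (by norm_num) hX hMS h17 hIc hD (by norm_num) (chk8 (7, 1, 24, []) (by simp))
      simp at h2
    · have h2 := chk_mem (by norm_num) hX hMS h17 hIc hD (by norm_num) (chk8 (17, 1, 24, []) (by simp))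
      simp at h2

end

end Cfsg.Agent.H429.CS.E5
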