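import Mathlib
import Cfsg.Agent.H429.CS.Same
import Cfsg.Agent.H429.CS.NoAlt
import Cfsg.Agent.H429.CS.SpE5L
import Cfsg.Agent.H494.CS.Spor
import Cfsg.Agent.OrdDiv.Table

/-!
# S3677, rows `PSp(2n, q)` and `PΩ(2n + 1, q)`: the order of `S` (helper429)

`hkn` is the classification for `S`, `hL2` is the piece E1 (`H364.CS.no_two`); `final` (without these hypotheses) is in `Final.lean`.
-/

set_option autoImplicit false

namespace Cfsg.Agent.H429.CS

open Subgroup Cfsg Cfsg.Agent.OrdDiv Cfsg.Agent.H902 Cfsg.Agent.H902.Names Cfsg.Agent.H221.CS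

universe u

variable {n p f M κ : ℕ} {Γ : Type u} [Group Γ] [Finite Γ] {S : Subgroup Γ}

theorem eq_two_of_pow {p f : ℕ} (hp : p.Prime) (h : p ^ f = 2) : p = 2 ∧ f = 1 := by
  have h1 : f ≠ 0 := by rintro rfl; simp at h
  have h2 : p ∣ 2 := by
    rw [← h]
    exact dvd_pow_self p h1
  have h3 := (Nat.prime_dvd_prime_iff_eq hp Nat.prime_two).1 h2
  subst h3
  exact ⟨rfl, Nat.pow_right_injective (le_refl 2) (by simpa using h)⟩

/-- **The order of `S`.** -/
theorem final_of (h : Dat n p f M κ Γ S) (hkn : IsKnownSimple' S)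
    (hL2 : ∀ v g : ℕ, v ≠ p → Art.Real (.L 2) v g (Nat.card S) → OrdDiv.Real (.psl 2 (v ^ g)) S → False) :
    Nat.card S = M ∨ (n = 3 ∧ p ^ f = 2 ∧ κ = 8 ∧ Nat.card S = 181440) := by
  have hp := h.hY.hp
  have hsim := h.simple
  by_cases h32 : n = 3 ∧ p ^ f = 2
  · obtain ⟨h3, h2⟩ := h32
    obtain ⟨rfl, rfl⟩ := eq_two_of_pow hp h2
    subst h3
    rcases E5.sp6 h hkn with h4 | ⟨h4, h5⟩
    · exact Or.inl h4
    · exact Or.inr ⟨rfl, h2, h4, h5⟩
  left
  by_cases h42 : n = 4 ∧ p ^ f = 2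
  · obtain ⟨h4, h2⟩ := h42
    obtain ⟨rfl, rfl⟩ := eq_two_of_pow hp h2
    subst h4
    exact E5.sp8 h hkn
  cases Names.exists_nam OrdDiv.table hkn h.nonab with
  | alt k hk h1 hc =>
    obtain ⟨e⟩ := h1
    exact (no_alt h h32 e).elim
  | spor x hx h1 hc => exact (Cfsg.Agent.H494.CS.no_spor h h32 hx h1 hc).elim
  | lie N X v g hN h1 hX =>
    by_cases hvp : v = p
    · subst hvp
      exact same h h42 h32 hN h1 hX
    · by_cases hX2 : X = .L 2
      · subst hX2
        cases hN with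
        | psl n p f => exact (hL2 _ _ hvp hX h1).elim
      · exact (cross h h42 h32 hN h1 hX hX2 hvp).elim

end Cfsg.Agent.H429.CS
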