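import Mathlib
import Cfsg.Agent.H365.Near
import Cfsg.Agent.H902.Zs

/-!
# Outer automorphism groups: light versions of some lemmas of helper364 (helper429, S3677)
-/

set_option autoImplicit false

namespace Cfsg.Agent.H429.CS.OutD

open Cfsg.Agent.H902 Cfsg.Agent.H902.Art

variable {X Y : Sh} {p f g MX MY : ℕ}

theorem exists_ppd {p n : ℕ} (hp : p.Prime) (hn : 3 ≤ n) (hex : ¬ (p = 2 ∧ n = 6)) :
    ∃ t : ℕ, t.Prime ∧ t ≠ p ∧ orderOf (p : ZMod t) = n := by
  obtain ⟨t, ht, ho⟩ := Cfsg.Agent.Lib.Zsigmondy.exists_prime_orderOf hp.two_le (by omega) (fun h => by omega) hex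
  exact ⟨t, ht, ne_of_order ht (by omega) ho, ho⟩

/-- the largest exponent of a divisor is not larger -/
theorem le_DM (hX : Real X p g MX) (hY : Real Y p f MY) (hdvd : MX ∣ MY) (h6 : 6 ≤ f * DM Y) :
    g * DM X ≤ f * DM Y := by
  by_cases h3 : 3 ≤ g * DM X
  · by_cases hex : p = 2 ∧ g * DM X = 6
    · omega
    · obtain ⟨t, ht, htp, ho⟩ := exists_ppd hX.hp h3 hex
      have h1 : t ∣ MX := hX.dvd_of_order_DM ht ho h3
      have hYl := BM_lt hY
      rcases hY.order_cases ht htp (h1.trans hdvd) with h2 | ⟨e, he1, he2, h2⟩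
      · rw [ho] at h2
        exact Nat.le_of_dvd (by omega) h2
      · rw [ho] at h2
        have h4 := Nat.le_of_dvd (Nat.mul_pos (by have := hY.hf; omega) he1) h2
        exact h4.trans (Nat.mul_le_mul_left f (by omega))
  · omega

/-- a prime `t ≥ 5` dividing `dd X` -/
theorem dd_cases (hX : Real X p g MX) {t : ℕ} (ht5 : 5 ≤ t) (h : t ∣ dd X (p ^ g)) :
    (orderOf (p : ZMod t) ∣ g ∧ ∃ n, X = .L n) ∨ (orderOf (p : ZMod t) ∣ 2 * g ∧ ∃ n, X = .U n) := by
  have hle : ∀ {a : ℕ}, t ∣ Nat.gcd a 4 → False := fun {a} h => by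
    have := Nat.le_of_dvd (by norm_num) (h.trans (Nat.gcd_dvd_right _ _)); omega
  have hl4 : ∀ {a : ℕ}, t ∣ Nat.gcd 4 a → False := fun {a} h => by
    have := Nat.le_of_dvd (by norm_num) (h.trans (Nat.gcd_dvd_left _ _)); omega
  have hl3 : ∀ {a : ℕ}, t ∣ Nat.gcd 3 a → False := fun {a} h => by
    have := Nat.le_of_dvd (by norm_num) (h.trans (Nat.gcd_dvd_left _ _)); omega
  have hl2 : ∀ {a : ℕ}, t ∣ Nat.gcd 2 a → False := fun {a} h => by
    have := Nat.le_of_dvd (by norm_num) (h.trans (Nat.gcd_dvd_left _ _)); omega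
  have hl1 : t ∣ 1 → False := fun h => by have := Nat.le_of_dvd (by norm_num) h; omega
  cases X with
  | L n =>
    left
    have h1 : t ∣ (p ^ g) ^ 1 - 1 := by rw [pow_one]; exact Nat.dvd_trans h (Nat.gcd_dvd_right _ _)
    exact ⟨by have := (dvd_iff hX.hp 1).1 h1; rwa [mul_one] at this, n, rfl⟩
  | U n =>
    right
    have h1 : t ∣ (p ^ g) ^ 1 + 1 := by rw [pow_one]; exact Nat.dvd_trans h (Nat.gcd_dvd_right _ _)
    exact ⟨by have := dvd_of_add hX.hp h1; rwa [mul_one, mul_comm] at this, n, rfl⟩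
  | C n => exact (hl2 h).elim
  | D n => exact (hl4 h).elim
  | DD n => exact (hl4 h).elim
  | G2 => exact (hl1 h).elim
  | F4 => exact (hl1 h).elim
  | E6 => exact (hl3 h).elim
  | E7 => exact (hl2 h).elim
  | E8 => exact (hl1 h).elim
  | TE6 => exact (hl3 h).elim
  | TD4 => exact (hl1 h).elim
  | Sz => exact (hl1 h).elim
  | Ree => exact (hl1 h).elim
  | TF4 => exact (hl1 h).elim

/-- the data of an outer automorphism group -/
structure OutDat (X : Sh) (p g I : ℕ) : Prop where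
  ex : ∃ c, I ∣ c * g ∧ c ∣ 24 * dd X (p ^ g) ∧ (p = 2 → c ∣ 6 * dd X (p ^ g))

theorem OutDat.prime (hX : Real X p g MX) {I : ℕ} (hI : OutDat X p g I) {t : ℕ} (ht : t.Prime) (ht5 : 5 ≤ t)
    (h : t ∣ I) : t ∣ g ∨ (orderOf (p : ZMod t) ∣ g ∧ ∃ n, X = .L n) ∨ (orderOf (p : ZMod t) ∣ 2 * g ∧ ∃ n, X = .U n) := by
  obtain ⟨c, h1, h2, -⟩ := hI.ex
  rcases ht.dvd_mul.1 (h.trans h1) with h3 | h3
  · rcases ht.dvd_mul.1 (h3.trans h2) with h4 | h4
    · exfalso
      have h5 : t ∣ 2 ^ 3 * 3 := h4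
      rcases ht.dvd_mul.1 h5 with h6 | h6
      · have := Nat.le_of_dvd (by norm_num) (ht.dvd_of_dvd_pow h6); omega
      · have := Nat.le_of_dvd (by norm_num) h6; omega
    · exact Or.inr (dd_cases hX ht5 h4)
  · exact Or.inl h3

/-- the power of `p` in the index divides `24 g` -/
theorem OutDat.dvd {I δ : ℕ} (hX : Real X p g MX) (hI : OutDat X p g I) (h : p ^ δ ∣ I) :
    p ^ δ ∣ 24 * g ∧ (p = 2 → 2 ^ δ ∣ 6 * g) := by
  have hp := hX.hp
  have hcop : Nat.Coprime (p ^ δ) (Art.dd X (p ^ g)) :=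
    Nat.Coprime.pow_left δ ((Nat.Prime.coprime_iff_not_dvd hp).2 hX.not_dvd_dd)
  obtain ⟨c, h1, h2, h3⟩ := hI.ex
  constructor
  · have h5 : p ^ δ ∣ Art.dd X (p ^ g) * (24 * g) := (h.trans h1).trans (by
      rw [show Art.dd X (p ^ g) * (24 * g) = 24 * Art.dd X (p ^ g) * g by ring]
      exact Nat.mul_dvd_mul_right h2 g)
    exact hcop.dvd_of_dvd_mul_left h5
  · rintro rfl
    have h5 : 2 ^ δ ∣ Art.dd X (2 ^ g) * (6 * g) := (h.trans h1).trans (by
      rw [show Art.dd X (2 ^ g) * (6 * g) = 6 * Art.dd X (2 ^ g) * g by ring]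
      exact Nat.mul_dvd_mul_right (h3 rfl) g)
    exact hcop.dvd_of_dvd_mul_left h5

/-- a primitive prime divisor of the largest exponent does not divide an outer index -/
theorem not_dvd_index {I r : ℕ} (hX : Real X p g MX) (hY : Real Y p f MY)
    (hdvd : MX ∣ MY) (h6 : 6 ≤ f * DM Y) (hr : r.Prime) (hro : orderOf (p : ZMod r) = f * DM Y)
    (hI : OutDat X p g I) : ¬ r ∣ I := by
  intro hrI
  have hg := hX.hf
  have hDle := le_DM hX hY hdvd h6
  have hge := Art.DM_ge hX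
  have hr1 : f * Art.DM Y ∣ r - 1 := by
    rw [← hro]
    have := Fact.mk hr
    have hne : (p : ZMod r) ≠ 0 := by
      intro h0
      rw [h0] at hro
      have h1 : (0 : ZMod r) ^ (f * Art.DM Y) = 1 := by rw [← hro]; exact pow_orderOf_eq_one _
      rw [zero_pow (by omega)] at h1
      exact zero_ne_one h1
    exact orderOf_dvd_of_pow_eq_one (ZMod.pow_card_sub_one_eq_one hne)
  have hr7 : f * Art.DM Y ≤ r - 1 := Nat.le_of_dvd (by have := hr.two_le; omega) hr1
  rcases hI.prime hX hr (by omega) hrI with h1 | ⟨h1, -⟩ | ⟨h1, h2⟩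
  · have h3 := Nat.le_of_dvd (by omega) h1
    have h4 : g * 2 ≤ g * Art.DM X := Nat.mul_le_mul_left _ hge.1
    omega
  · rw [hro] at h1
    have h3 := Nat.le_of_dvd (by omega) h1
    have h4 : g * 2 ≤ g * Art.DM X := Nat.mul_le_mul_left _ hge.1
    omega
  · rw [hro] at h1
    have h3 := Nat.le_of_dvd (by omega) h1
    have h4 : g * 3 ≤ g * Art.DM X := Nat.mul_le_mul_left _ (hge.2 h2)
    omega

/-- a prime of order `k ≥ 3` -/
theorem ne_of_order' {q r k : ℕ} (hr : r.Prime) (hk : 3 ≤ k) (h : orderOf (q : ZMod r) = k) :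
    k < r ∧ ¬ r ∣ q := by
  have := Fact.mk hr
  have hq0 : (q : ZMod r) ≠ 0 := by
    intro h0
    rw [h0] at h
    have h1 : (0 : ZMod r) ^ k = 1 := by rw [← h]; exact pow_orderOf_eq_one _
    rw [zero_pow (by omega)] at h1
    exact zero_ne_one h1
  constructor
  · have h1 : k ∣ r - 1 := by
      rw [← h]
      exact orderOf_dvd_of_pow_eq_one (ZMod.pow_card_sub_one_eq_one hq0)
    have := Nat.le_of_dvd (by have := hr.two_le; omega) h1
    have := hr.two_le
    omega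
  · intro hd
    exact hq0 ((ZMod.natCast_eq_zero_iff q r).2 hd)

/-- a prime of a class `≥ 2 (n - 1)` does not divide the index -/
theorem not_dvd_index' {n k r I : ℕ} (hX : Real X p g MX) (hn : 3 ≤ n) (hf : 1 ≤ f)
    (hD : g * DM X = f * (2 * n)) (hk : 2 * (n - 1) ≤ k) (hr : r.Prime) (hro : orderOf (p : ZMod r) = f * k)
    (hI : OutDat X p g I) : ¬ r ∣ I := by
  intro hrI
  have hg := hX.hf
  have hge := Art.DM_ge hX
  have hfn : f * 3 ≤ f * n := Nat.mul_le_mul_left _ hn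
  have hfk : f * (2 * (n - 1)) ≤ f * k := Nat.mul_le_mul_left _ hk
  have hfk2 : f * (2 * (n - 1)) = 2 * (f * n) - 2 * f := by
    rw [show 2 * (n - 1) = 2 * n - 2 by omega, Nat.mul_sub]
    congr 1 <;> ring
  have hfn2 : f * (2 * n) = 2 * (f * n) := by ring
  have hfk1 : 4 ≤ f * k := by omega
  obtain ⟨h1, h2⟩ := ne_of_order' hr (show 3 ≤ f * k by omega) hro
  have h2g : g * 2 ≤ f * (2 * n) := by rw [← hD]; exact Nat.mul_le_mul_left _ hge.1
  rcases hI.prime hX hr (by omega) hrI with h3 | ⟨h3, -⟩ | ⟨h3, h4⟩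
  · have h5 := Nat.le_of_dvd (by omega) h3
    omega
  · rw [hro] at h3
    have h5 := Nat.le_of_dvd (by omega) h3
    omega
  · rw [hro] at h3
    have h5 := Nat.le_of_dvd (by omega) h3
    obtain ⟨m, rfl⟩ := h4
    have hok := hX.ok
    have hm : 3 ≤ m := hok.1
    have h6 : 6 ≤ Art.DM (.U m) := by
      show 6 ≤ if Even m then 2 * (m - 1) else 2 * m
      split_ifs with hev
      · obtain ⟨j, rfl⟩ := hev
        omega
      · omega
    have h7 : g * 6 ≤ f * (2 * n) := by rw [← hD]; exact Nat.mul_le_mul_left _ h6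
    omega

end Cfsg.Agent.H429.CS.OutD
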